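import Cfsg.Agent.H500.Su3.Elim
import Cfsg.Agent.H376.ElimOdd
import Cfsg.Agent.H168.ExcCoc
import Cfsg.Agent.H168.TwF4Cover
import Cfsg.Prelude.Def_LieTypeChar
import Mathlib

/-!
# Cross characteristic for `PSU_N(3)`, `N ≥ 44` (helper500, task 2129)
-/

set_option autoImplicit false

namespace Cfsg.Agent.H500.Su3

open Finset Cfsg Cfsg.Agent.H376.Coc Cfsg.Agent.H376 Cfsg.Agent.H72.AdjPSU Cfsg.Agent.H420.QR

/-- no section of small coclique number -/
theorem false_of_cover {S : Type*} [Group S] (H : Side S 22) {u c : ℕ} (hu : IsPrimePow u) (hcov : Cover S u c)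
    (hc : c ≤ 12) : False := by
  classical
  obtain ⟨p, f, hp, hf, rfl⟩ := hu
  have hpn := hp.nat_prime
  obtain ⟨D, hD, hcard, hgood⟩ := H.top
  have h3 : ∀ r ∈ D, 3 < r := fun r hr => by
    obtain ⟨a, b⟩ := hgood r hr
    have := lt_of_good a
    omega
  have key : (D.erase p).card ≤ c := by
    refine hcov.card_le _ (fun r hr => ?_) fun r hr s hs hrs => ?_
    · obtain ⟨hrp, hrC⟩ := Finset.mem_erase.1 hr
      refine ⟨hD.prime r hrC, h3 r hrC, fun hd => hrp ?_, hD.dvd r hrC⟩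
      exact (Nat.prime_dvd_prime_iff_eq (hD.prime r hrC) hpn).1 ((hD.prime r hrC).dvd_of_dvd_pow hd)
    · exact hD.indep r (Finset.mem_of_mem_erase hr) s (Finset.mem_of_mem_erase hs) hrs
  have h2 := Finset.pred_card_le_card_erase (s := D) (a := p)
  omega

/-- **Cross characteristic for `PSU_N(3)`.** -/
theorem cross {F : Type*} [Field F] [Fintype F] (hF : Fintype.card F = 9) {N : ℕ} (hN : 44 ≤ N) {S : Type*} [Group S]
    [Finite S] [IsSimpleGroup S] (H : Cfsg.Agent.H376.Hyp S (Cfsg.PSU N F 3)) {p : ℕ} (_hp : p.Prime)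
    (hS : Cfsg.IsLieTypeChar p S) : p = 3 := by
  have side : ∀ {T : Type} [Group T], Hyp T (Cfsg.PSU N F 3) → Side T 22 := fun h =>
    side_of_hyp (by rw [hF]; norm_num) hN (by omega) (by omega) h
  have sideS : Side S 22 := side_of_hyp (by rw [hF]; norm_num) hN (by omega) (by omega) H
  rcases hS with h | h | h | h | h | h | h | h | h | h | h
  · obtain ⟨E, _, _, _, n, hn, -, ⟨e⟩⟩ := h
    exact elim_psl (E := E) hn (sideS.congr e)
  · obtain ⟨E, _, _, _, m, hm, -, ⟨e⟩⟩ := h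
    exact elim_psp (E := E) hm (sideS.congr e)
  · obtain ⟨E, _, _, _, n, u, hE, hn, -, ⟨e⟩⟩ := h
    exact elim_psu (E := E) hE hn (sideS.congr e)
  · obtain ⟨E, _, _, _, m, hm, hodd, ⟨e⟩⟩ := h
    exact elim_psp (E := E) (by omega) (side ((H.congr e).of_oodd hodd hm))
  · obtain ⟨E, _, _, _, m, hm, ⟨e⟩⟩ := h
    exact elim_orth (E := E) (oside_plus hm) (sideS.congr e)
  · obtain ⟨E, _, _, _, m, a, b, hm, hab, ⟨e⟩⟩ := h
    exact elim_orth (E := E) (oside_minus hm hab) (sideS.congr e)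
  · obtain ⟨E, _, _, _, h⟩ := h
    have hE : IsPrimePow (Fintype.card E) := Fintype.isPrimePow_card_of_field
    exfalso
    rcases h with ⟨-, ⟨e⟩⟩ | ⟨⟨e⟩⟩ | ⟨⟨e⟩⟩ | ⟨⟨e⟩⟩ | ⟨⟨e⟩⟩
    · exact false_of_cover sideS hE (Cover.congr e H168.ExcCover.g2_cover) (by norm_num)
    · exact false_of_cover sideS hE (Cover.congr e H168.ExcCover.f4_cover) (by norm_num)
    · exact false_of_cover sideS hE (Cover.congr e H168.ExcCover.e6_cover) (by norm_num)
    · exact false_of_cover sideS hE (Cover.congr e H168.ExcCover.e7_cover) (by norm_num)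
    · exact false_of_cover sideS hE (Cover.congr e H168.ExcCover.e8_cover) (by norm_num)
  · obtain ⟨K, _, _, _, u, hu, h⟩ := h
    exfalso
    rcases h with ⟨hK, ⟨e⟩⟩ | ⟨hK, ⟨e⟩⟩
    · exact false_of_cover sideS hu (Cover.congr e (H168.TwCover.te6_cover hK hu)) (by norm_num)
    · exact false_of_cover sideS hu (Cover.congr e (H168.TwCover.td4_cover hK hu)) (by norm_num)
  · obtain ⟨-, h⟩ := h
    exact (false_of_cover sideS (u := 2) Nat.prime_two.isPrimePow (H168.TwF4Cover.cover_suzuki h) (by norm_num)).elim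
  · obtain ⟨-, E, i1, i2, m, hm, hE, ⟨e⟩⟩ := h
    exact (false_of_cover sideS (u := 2) Nat.prime_two.isPrimePow
      (Cover.congr e (H168.TwF4Cover.tf4_cover hE)) (by norm_num)).elim
  · exact h.1

end Cfsg.Agent.H500.Su3
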