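import Cfsg.Agent.H376.Hyp
import Cfsg.Agent.H149.PGU
import Cfsg.Agent.H149.NegPrime
import Cfsg.Agent.H72.AdjPSUW
import Mathlib

/-!
# Cocliques of `L = PSU_N(3)`, from below (helper500, task 2129)

The twin of `H376/LPsl`, with the order of `-3` modulo `x` in place of the order of `q`.

* `Good x`: `x` is a prime, not 2, not 3 (so `-3` has order at least 3 modulo `x`);
* `dvd_iff`: a good prime divides `|PSU_N(3)|` iff the order of `-3` modulo it is at most `N`;
* `not_adj`: non-adjacency;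
* `exists_thr`: through each good `x` with `k = nu 3 x ≤ N` there is a coclique with `min k (N - N / 2)`
  members, all good.
* `Side S T`: what this says about a section `S`.
-/

set_option autoImplicit false

namespace Cfsg.Agent.H500.Su3

open Finset Cfsg.Agent.H376.Coc Cfsg.Agent.H376 Cfsg.Agent.H72.AdjPSU

/-- the primes of positive dimension -/
structure Good (x : ℕ) : Prop where
  prime : x.Prime
  odd : x ≠ 2
  ne3 : x ≠ 3

theorem nu_cast (x : ℕ) : nu 3 x = orderOf (-((3 : ℕ) : ZMod x)) := rfl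

theorem Good.not_dvd_four {x : ℕ} (hx : Good x) : ¬ x ∣ 3 + 1 := by
  intro h
  have h1 : x ∣ 2 ^ 2 := h
  exact hx.odd ((Nat.prime_dvd_prime_iff_eq hx.prime Nat.prime_two).1 (hx.prime.dvd_of_dvd_pow h1))

theorem Good.not_dvd_three {x : ℕ} (hx : Good x) : ¬ x ∣ 3 := fun h =>
  hx.ne3 ((Nat.prime_dvd_prime_iff_eq hx.prime Nat.prime_three).1 h)

theorem Good.ord {x : ℕ} (hx : Good x) : 2 ≤ nu 3 x := by
  have h1 := nu_pos hx.prime hx.not_dvd_three
  by_contra hlt
  have h2 : nu 3 x = 1 := by omega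
  rw [nu_cast, orderOf_eq_one_iff] at h2
  apply hx.not_dvd_four
  rw [← ZMod.natCast_eq_zero_iff]
  push_cast at h2 ⊢
  linear_combination -h2

/-- good primes are larger than their orders -/
theorem lt_of_good {x : ℕ} (hx : Good x) : nu 3 x < x := by
  have := Fact.mk hx.prime
  have h0 : (-((3 : ℕ) : ZMod x)) ≠ 0 := by
    rw [neg_ne_zero, Ne, ZMod.natCast_eq_zero_iff]
    exact hx.not_dvd_three
  have h1 : nu 3 x ∣ x - 1 := orderOf_dvd_of_pow_eq_one (ZMod.pow_card_sub_one_eq_one h0)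
  have h2 := hx.prime.two_le
  have h3 := Nat.le_of_dvd (by omega) h1
  omega

/-- Zsigmondy primes -/
theorem exists_good {k : ℕ} (hk : 3 ≤ k) : ∃ z, Good z ∧ nu 3 z = k := by
  obtain ⟨r, hr, hord, -, hr3, hr2⟩ := Cfsg.Agent.H149.NegPrime.exists_neg_prime (p := 3) (f := 1) (q := 3)
    Nat.prime_three rfl le_rfl hk (by omega)
  exact ⟨r, ⟨hr, hr2, hr3⟩, hord⟩

section

variable {F : Type*} [Field F] [Fintype F]

theorem dvd_iff (hF : Fintype.card F = 3 ^ 2) {N x : ℕ} (hN : 3 ≤ N) (hx : Good x) :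
    x ∣ Nat.card (Cfsg.PSU N F 3) ↔ nu 3 x ≤ N := by
  constructor
  · intro h
    exact nu_le hF (by omega) hx.prime hx.not_dvd_three h
  · intro h
    have h2 : ¬ (x ∣ 3 ∨ x ∣ 3 + 1) := not_or.2 ⟨hx.not_dvd_three, hx.not_dvd_four⟩
    have h3 : wU 3 x = nu 3 x := if_neg h2
    obtain ⟨z, hz⟩ := exists_order_of_block hF hN (hasBlock_wU hF hx.prime) (wU_pos hx.prime)
      (by rw [h3]; exact h) ((Nat.Prime.coprime_iff_not_dvd hx.prime).2 hx.not_dvd_four) _ dvd_rfl
    rw [← hz]
    exact orderOf_dvd_natCard z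

theorem not_adj (hF : Fintype.card F = 3 ^ 2) {N x y : ℕ} (hN : 3 ≤ N) (hx : Good x)
    (hy : Good y) (hlt : nu 3 x < nu 3 y) (hyN : N / 2 < nu 3 y)
    (hsum : N < nu 3 x + nu 3 y) (hnd : ¬ nu 3 x ∣ nu 3 y) :
    ¬ ∃ g : Cfsg.PSU N F 3, orderOf g = x * y := by
  intro h
  have h3 : Fact (Nat.Prime 3) := ⟨Nat.prime_three⟩
  have hne : x ≠ y := by rintro rfl; exact lt_irrefl _ hlt
  rcases Cfsg.Agent.H149.PGU.psu_adj (p := 3) (f := 1) (q := 3) rfl hF hN hx.prime hy.prime hne hx.ne3 hy.ne3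
    hx.not_dvd_four hy.not_dvd_four h with h1 | ⟨d, hd0, hdN, h1, h2⟩
  · change nu 3 x + nu 3 y ≤ N at h1
    omega
  · change nu 3 x ∣ d at h1
    change nu 3 y ∣ d at h2
    obtain ⟨c, rfl⟩ := h2
    have hc0 : c ≠ 0 := by rintro rfl; omega
    have hc : c < 2 := by
      by_contra hc
      have : nu 3 y * 2 ≤ nu 3 y * c := Nat.mul_le_mul_left _ (by omega)
      omega
    rw [show c = 1 by omega, mul_one] at h1
    exact hnd h1

/-- **Cocliques through a good prime** -/
theorem exists_thr (hF : Fintype.card F = 3 ^ 2) {N x : ℕ} (hN : 4 ≤ N)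
    (hx : Good x) (hxN : nu 3 x ≤ N) :
    ∃ C : Finset ℕ, IsCoc (Cfsg.PSU N F 3) C ∧ x ∈ C ∧
      C.card = min (nu 3 x) (N - N / 2) ∧ (∀ s ∈ C, Good s) ∧
      ∀ s ∈ C, s ≠ x → N / 2 < nu 3 s ∧ nu 3 s ≤ N := by
  classical
  set k := nu 3 x with hk
  have hk2 := hx.ord
  rw [← hk] at hk2
  have hz : ∀ j : ℕ, ∃ z, 3 ≤ j → Good z ∧ nu 3 z = j := by
    intro j
    by_cases h : 3 ≤ j
    · obtain ⟨z, hz⟩ := exists_good h
      exact ⟨z, fun _ => hz⟩
    · exact ⟨0, fun h' => absurd h' h⟩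
  choose z hz using hz
  -- the index set
  set J : Finset ℕ := (Ioc (max (N - k) (N / 2)) N).filter fun j => ¬ k ∣ j with hJ
  have hJmem : ∀ j ∈ J, N - k < j ∧ N / 2 < j ∧ j ≤ N ∧ ¬ k ∣ j := by
    intro j hj
    rw [hJ, mem_filter, mem_Ioc, max_lt_iff] at hj
    exact ⟨hj.1.1.1, hj.1.1.2, hj.1.2, hj.2⟩
  have hJ3 : ∀ j ∈ J, 3 ≤ j := fun j hj => by have := hJmem j hj; omega
  have hzord : ∀ j ∈ J, nu 3 (z j) = j := fun j hj => (hz j (hJ3 j hj)).2
  have hxz : ∀ j ∈ J, x ≠ z j := by
    intro j hj h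
    have h1 := hzord j hj
    rw [← h, ← hk] at h1
    exact (hJmem j hj).2.2.2 (h1 ▸ dvd_rfl)
  have hinj : Set.InjOn z J := by
    intro i hi j hj h
    have h1 := hzord i hi
    rw [h, hzord j hj] at h1
    exact h1.symm
  have hJcard : J.card + 1 = min k (N - N / 2) := by
    rcases le_or_gt k (N / 2) with hle | hlt
    · have h1 : max (N - k) (N / 2) = N - k := max_eq_left (by omega)
      have h2 : J.card + ((Ioc (N - k) N).filter fun j => k ∣ j).card = k := by
        rw [hJ, h1, add_comm, card_filter_add_card_filter_not, Nat.card_Ioc]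
        omega
      have h3 : ((Ioc (N - k) N).filter fun j => k ∣ j).card = 1 := by
        rw [card_eq_one]
        refine ⟨k * (N / k), ?_⟩
        ext j
        rw [mem_filter, mem_Ioc, mem_singleton]
        have h4 := Nat.div_add_mod N k
        have h5 := Nat.mod_lt N (show 0 < k by omega)
        constructor
        · rintro ⟨⟨h6, h7⟩, c, rfl⟩
          congr 1
          have h8 : c ≤ N / k := (Nat.le_div_iff_mul_le (by omega)).2 (by rw [mul_comm]; exact h7)
          refine le_antisymm h8 ?_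
          by_contra hc
          have h9 : c + 1 ≤ N / k := by omega
          have h10 : k * (c + 1) ≤ k * (N / k) := Nat.mul_le_mul_left _ h9
          rw [mul_add, mul_one] at h10
          omega
        · rintro rfl
          exact ⟨⟨by omega, by omega⟩, dvd_mul_right _ _⟩
      rw [min_eq_left (by omega)]
      omega
    · have h1 : max (N - k) (N / 2) = N / 2 := max_eq_right (by omega)
      have h2 : J = (Ioc (N / 2) N).erase k := by
        rw [hJ, h1]
        ext j
        rw [mem_filter, mem_erase, mem_Ioc]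
        constructor
        · rintro ⟨h3, h4⟩
          exact ⟨fun h => h4 (h ▸ dvd_rfl), h3⟩
        · rintro ⟨h3, h4⟩
          refine ⟨h4, fun ⟨c, hc⟩ => ?_⟩
          rcases c with _ | _ | c
          · omega
          · omega
          · have : k * 2 ≤ k * (c + 1 + 1) := Nat.mul_le_mul_left _ (by omega)
            omega
      rw [h2, card_erase_of_mem (mem_Ioc.2 ⟨hlt, hxN⟩), Nat.card_Ioc, min_eq_right (by omega)]
      omega
  refine ⟨insert x (J.image z), ⟨?_, ?_, ?_⟩, mem_insert_self _ _, ?_, ?_, ?_⟩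
  · intro p hp
    rcases mem_insert.1 hp with rfl | hp
    · exact hx.prime
    · obtain ⟨j, hj, rfl⟩ := mem_image.1 hp
      exact (hz j (hJ3 j hj)).1.prime
  · intro p hp
    rcases mem_insert.1 hp with rfl | hp
    · exact (dvd_iff hF (by omega) hx).2 hxN
    · obtain ⟨j, hj, rfl⟩ := mem_image.1 hp
      refine (dvd_iff hF (by omega) (hz j (hJ3 j hj)).1).2 ?_
      rw [hzord j hj]
      exact (hJmem j hj).2.2.1
  · have key : ∀ j ∈ J, ¬ ∃ g : Cfsg.PSU N F 3,
        orderOf g = x * z j := by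
      intro j hj
      have hm := hJmem j hj
      rcases lt_trichotomy k j with h | h | h
      · refine not_adj hF (by omega) hx (hz j (hJ3 j hj)).1 ?_ ?_ ?_ ?_
        · rw [hzord j hj, ← hk]; exact h
        · rw [hzord j hj]; exact hm.2.1
        · rw [hzord j hj, ← hk]; omega
        · rw [hzord j hj, ← hk]; exact hm.2.2.2
      · exact absurd (h ▸ dvd_rfl) hm.2.2.2
      · rw [mul_comm]
        refine not_adj hF (by omega) (hz j (hJ3 j hj)).1 hx ?_ ?_ ?_ ?_
        · rw [hzord j hj, ← hk]; exact h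
        · rw [← hk]; omega
        · rw [hzord j hj, ← hk]; omega
        · rw [hzord j hj, ← hk]
          rintro ⟨c, hc⟩
          rcases c with _ | _ | c
          · omega
          · omega
          · have : j * 2 ≤ j * (c + 1 + 1) := Nat.mul_le_mul_left _ (by omega)
            omega
    have key2 : ∀ i ∈ J, ∀ j ∈ J, i < j → ¬ ∃ g : Cfsg.PSU N F 3,
        orderOf g = z i * z j := by
      intro i hi j hj hij
      have hmi := hJmem i hi
      have hmj := hJmem j hj
      refine not_adj hF (by omega) (hz i (hJ3 i hi)).1 (hz j (hJ3 j hj)).1 ?_ ?_ ?_ ?_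
      · rw [hzord i hi, hzord j hj]; exact hij
      · rw [hzord j hj]; exact hmj.2.1
      · rw [hzord i hi, hzord j hj]; omega
      · rw [hzord i hi, hzord j hj]
        rintro ⟨c, hc⟩
        rcases c with _ | _ | c
        · omega
        · omega
        · have : i * 2 ≤ i * (c + 1 + 1) := Nat.mul_le_mul_left _ (by omega)
          omega
    intro s hs t ht hst
    rcases mem_insert.1 hs with rfl | hs
    · rcases mem_insert.1 ht with rfl | ht
      · exact absurd rfl hst
      · obtain ⟨j, hj, rfl⟩ := mem_image.1 ht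
        exact key j hj
    · obtain ⟨i, hi, rfl⟩ := mem_image.1 hs
      rcases mem_insert.1 ht with rfl | ht
      · rw [mul_comm]; exact key i hi
      · obtain ⟨j, hj, rfl⟩ := mem_image.1 ht
        rcases lt_trichotomy i j with h | h | h
        · exact key2 i hi j hj h
        · subst h; exact absurd rfl hst
        · rw [mul_comm]; exact key2 j hj i hi h
  · rw [card_insert_of_notMem, card_image_of_injOn hinj, hJcard]
    intro h
    obtain ⟨j, hj, h1⟩ := mem_image.1 h
    exact hxz j hj h1.symm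
  · intro s hs
    rcases mem_insert.1 hs with rfl | hs
    · exact hx
    · obtain ⟨j, hj, rfl⟩ := mem_image.1 hs
      exact (hz j (hJ3 j hj)).1
  · intro s hs hsx
    rcases mem_insert.1 hs with rfl | hs
    · exact absurd rfl hsx
    · obtain ⟨j, hj, rfl⟩ := mem_image.1 hs
      rw [hzord j hj]
      exact ⟨(hJmem j hj).2.1, (hJmem j hj).2.2.1⟩

end

/-- what the prime graph of `PSU_N(3)` says about the section `S` -/
structure Side (S : Type*) [Group S] (T : ℕ) : Prop where
  thr : ∀ x : ℕ, Good x → x ∣ Nat.card S → ∃ D : Finset ℕ, IsCoc S D ∧ x ∈ D ∧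
    min (nu 3 x) T ≤ D.card + 1 ∧ ∀ s ∈ D, Good s
  top : ∃ D : Finset ℕ, IsCoc S D ∧ T ≤ D.card + 1 ∧ ∀ s ∈ D, Good s ∧ T ≤ nu 3 s

theorem side_of_hyp {F : Type*} [Field F] [Fintype F] {S : Type*} [Group S] (hF : Fintype.card F = 3 ^ 2) {N T : ℕ}
    (hN : 44 ≤ N) (hT : T ≤ N - N / 2) (hT' : T ≤ N / 2 + 1) (H : Hyp S (Cfsg.PSU N F 3)) : Side S T := by
  constructor
  · intro x hx hxS
    have hxN := (dvd_iff hF (by omega) hx).1 (H.dvd x hx.prime hxS)
    obtain ⟨C, hC, hxC, hcard, hgood, -⟩ := exists_thr hF (by omega) hx hxN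
    by_cases h3 : 3 ≤ C.card
    · obtain ⟨D, hDC, hD, h1, h2⟩ := H.exists_coc hC h3
      exact ⟨D, hD, h2 x hxC hxS, by omega, fun s hs => hgood s (hDC hs)⟩
    · refine ⟨{x}, ⟨?_, ?_, ?_⟩, mem_singleton_self x, ?_, ?_⟩
      · intro p hp
        rw [mem_singleton.1 hp]; exact hx.prime
      · intro p hp
        rw [mem_singleton.1 hp]; exact hxS
      · intro p hp r hr hne
        exact absurd ((mem_singleton.1 hp).trans (mem_singleton.1 hr).symm) hne
      · rw [card_singleton]
        omega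
      · intro s hs
        rw [mem_singleton.1 hs]; exact hx
  · obtain ⟨z, hz, hzN⟩ := exists_good (k := N) (by omega)
    obtain ⟨C, hC, hxC, hcard, hgood, hord⟩ := exists_thr hF (by omega) hz hzN.le
    rw [hzN] at hcard
    obtain ⟨D, hDC, hD, h1, h2⟩ := H.exists_coc hC (by omega)
    refine ⟨D, hD, by omega, fun s hs => ⟨hgood s (hDC hs), ?_⟩⟩
    by_cases hsz : s = z
    · rw [hsz, hzN]; omega
    · have := hord s (hDC hs) hsz
      omega

theorem Side.congr {S S' : Type*} [Group S] [Group S'] {T : ℕ} (h : Side S T) (e : S ≃* S') : Side S' T := by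
  have hc : Nat.card S' = Nat.card S := (Nat.card_congr e.toEquiv).symm
  refine ⟨fun x hx hxS => ?_, ?_⟩
  · obtain ⟨D, h1, h2, h3, h4⟩ := h.thr x hx (hc ▸ hxS)
    exact ⟨D, h1.congr e, h2, h3, h4⟩
  · obtain ⟨D, h1, h2, h3⟩ := h.top
    exact ⟨D, h1.congr e, h2, h3⟩

end Cfsg.Agent.H500.Su3
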